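import Groth.Prelude.Def_W4c3ghconstell
import Groth.Agent.Comod.Coalg
import Mathlib

/-!
Isotypic components of comodules: stability, decomposition of subcomodules, weights.
-/

noncomputable section

open scoped Classical
open TensorProduct WithConv
open Groth.Agent.Comod (contract slice sliceL contract_contract contract_counit contract_mem
  isSubcomod_iff mem_range_map_iff mem_range_lTensor_iff_slice mem_range_lTensor_iff_sliceL)
open W4c3ghconstell

namespace Groth.Agent.GHConstLib

universe u v w x

section Coalg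

variable {k : Type u} [Field k] {A : Type v} [AddCommGroup A] [Module k A] [Coalgebra k A]
variable {M : Type x} [AddCommGroup M] [Module k M] [HopfRep.Comod k A M]

lemma mem_isoComp_iff {D : Submodule k A} {v : M} :
    v ∈ isoComp M D ↔ ∀ φ : A →ₗ[k] k, φ ∘ₗ D.subtype = 0 → contract φ v = 0 :=
  mem_range_lTensor_iff_slice D.subtype _

lemma contract_eq_self {D : Submodule k A} {v : M} (hv : v ∈ isoComp M D) {φ : A →ₗ[k] k}
    (hφ : ∀ d ∈ D, φ d = Coalgebra.counit (R := k) d) : contract φ v = v := by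
  have h := mem_isoComp_iff.1 hv (φ - Coalgebra.counit (R := k) (A := A))
    (LinearMap.ext fun d => by simp [hφ d d.2])
  have h1 : contract (φ - Coalgebra.counit (R := k) (A := A)) v =
      contract φ v - contract (Coalgebra.counit (R := k) (A := A)) v := by
    simp [contract, slice, LinearMap.lTensor_sub]
  rw [h1, contract_counit, sub_eq_zero] at h
  exact h

lemma isoComp_isSubcomod {D : Submodule k A} (hD : W4c3ghconstell.IsSubcoalg k A D) :
    HopfRep.IsSubcomod (k := k) (A := A) (isoComp M D) := by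
  rw [isSubcomod_iff]
  intro φ v hv
  rw [mem_isoComp_iff] at hv ⊢
  intro ψ hψ
  rw [contract_contract]
  refine hv _ (LinearMap.ext fun d => ?_)
  obtain ⟨y, hy⟩ := hD d d.2
  rw [LinearMap.comp_apply, LinearMap.convMul_apply]
  show LinearMap.mul' k k (TensorProduct.map ψ φ (CoalgebraStruct.comul (R := k) (d : A))) = 0
  rw [← hy, ← LinearMap.comp_apply (TensorProduct.map ψ φ), ← TensorProduct.map_comp, hψ,
    TensorProduct.map_zero_left]
  simp

lemma subcoalg_mono_range {B B' : Submodule k A} (h : B ≤ B') :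
    LinearMap.range (TensorProduct.map B.subtype B.subtype) ≤
      LinearMap.range (TensorProduct.map B'.subtype B'.subtype) := by
  rw [show B.subtype = B'.subtype ∘ₗ Submodule.inclusion h from rfl, TensorProduct.map_comp]
  exact LinearMap.range_comp_le_range _ _

lemma isSubcoalg_sup {B B' : Submodule k A} (hB : W4c3ghconstell.IsSubcoalg k A B)
    (hB' : W4c3ghconstell.IsSubcoalg k A B') : W4c3ghconstell.IsSubcoalg k A (B ⊔ B') := by
  intro d hd
  obtain ⟨b, hb, b', hb', rfl⟩ := Submodule.mem_sup.1 hd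
  rw [map_add]
  exact add_mem (subcoalg_mono_range le_sup_left (hB b hb)) (subcoalg_mono_range le_sup_right (hB' b' hb'))

lemma isSubcoalg_bot : W4c3ghconstell.IsSubcoalg k A (⊥ : Submodule k A) := by
  intro d hd
  rw [Submodule.mem_bot] at hd
  subst hd
  simp

lemma isSubcoalg_finsetSup (s : Finset (SimpSub k A)) :
    W4c3ghconstell.IsSubcoalg k A (s.sup fun E => E.1) := by
  induction s using Finset.induction_on with
  | empty => simpa using isSubcoalg_bot
  | insert E s _ ih => rw [Finset.sup_insert]; exact isSubcoalg_sup E.2.2.1 ih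

lemma exists_functional {D E : Submodule k A} (h : D ⊓ E = ⊥) :
    ∃ f : A →ₗ[k] k, (∀ d ∈ D, f d = Coalgebra.counit (R := k) d) ∧ ∀ e ∈ E, f e = 0 := by
  obtain ⟨p, hp⟩ := LinearMap.exists_leftInverse_of_injective (E.mkQ ∘ₗ D.subtype) (by
    rw [LinearMap.ker_eq_bot']
    intro d hd
    have : (d : A) ∈ D ⊓ E := ⟨d.2, (Submodule.Quotient.mk_eq_zero E).1 hd⟩
    rw [h, Submodule.mem_bot] at this
    exact Subtype.ext this)
  refine ⟨Coalgebra.counit (R := k) ∘ₗ D.subtype ∘ₗ p ∘ₗ E.mkQ, fun d hd => ?_, fun e he => ?_⟩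
  · have := LinearMap.congr_fun hp ⟨d, hd⟩
    simp only [LinearMap.comp_apply, LinearMap.id_apply] at this
    simp only [LinearMap.comp_apply]
    exact congrArg (fun z : D => Coalgebra.counit (R := k) (z : A)) this
  · simp [(Submodule.Quotient.mk_eq_zero E).2 he]

lemma inf_sup_eq_bot {D : SimpSub k A} {E E' : Submodule k A}
    (hE : W4c3ghconstell.IsSubcoalg k A E) (hE' : W4c3ghconstell.IsSubcoalg k A E')
    (h : D.1 ⊓ E = ⊥) (h' : D.1 ⊓ E' = ⊥) : D.1 ⊓ (E ⊔ E') = ⊥ := by
  have hsc : W4c3ghconstell.IsSubcoalg k A (D.1 ⊓ (E ⊔ E')) :=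
    Groth.Agent.Comod.isSubcoalg_inf D.2.2.1 (isSubcoalg_sup hE hE')
  rcases D.2.2.2 _ inf_le_left hsc with h0 | h0
  · exact h0
  exfalso
  obtain ⟨f, hf, hf0⟩ := exists_functional h
  have key : ∀ d ∈ D.1, d ∈ E' := by
    intro d hd
    have hdd : sliceL f (CoalgebraStruct.comul (R := k) d) = d := by
      obtain ⟨y, hy⟩ := D.2.2.1 d hd
      have e : f ∘ₗ D.1.subtype = Coalgebra.counit (R := k) ∘ₗ D.1.subtype :=
        LinearMap.ext fun z => hf z z.2
      have h1 : ∀ g : A →ₗ[k] k, sliceL g (TensorProduct.map D.1.subtype D.1.subtype y) =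
          sliceL (g ∘ₗ D.1.subtype) (D.1.subtype.lTensor D.1 y) := by
        intro g
        rw [← Groth.Agent.Comod.sliceL_rTensor, ← LinearMap.comp_apply (D.1.subtype.rTensor A),
          LinearMap.rTensor_comp_lTensor]
      have h2 : sliceL (Coalgebra.counit (R := k) (A := A)) (CoalgebraStruct.comul (R := k) d) = d := by
        have := Coalgebra.rTensor_counit_comul (R := k) d
        change TensorProduct.lid k A ((Coalgebra.counit (R := k) (A := A)).rTensor A
          (Coalgebra.comul (R := k) d)) = d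
        rw [this]; simp
      rw [← hy, h1, e, ← h1, hy, h2]
    have hmem : d ∈ E ⊔ E' := by
      have : d ∈ D.1 ⊓ (E ⊔ E') := by rw [h0]; exact hd
      exact this.2
    obtain ⟨b, hb, e, he, rfl⟩ := Submodule.mem_sup.1 hmem
    rw [← hdd, map_add, map_add]
    have hb0 : sliceL f (CoalgebraStruct.comul (R := k) b) = 0 := by
      obtain ⟨y, hy⟩ := hE b hb
      rw [← hy]
      clear hy
      induction y using TensorProduct.induction_on with
      | zero => simp
      | tmul p q => simp [hf0 p p.2]
      | add p q hp hq => simp only [map_add, hp, hq, add_zero]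
    rw [hb0, zero_add]
    exact ((mem_range_map_iff E' E' _).1 (hE' e he)).2 f
  have : D.1 ⊓ E' = D.1 := inf_eq_left.2 key
  exact D.2.1 (by rw [← this, h'])

lemma inf_finsetSup_eq_bot {D : SimpSub k A} (s : Finset (SimpSub k A)) (hD : D ∉ s) :
    D.1 ⊓ (s.sup fun E => E.1) = ⊥ := by
  induction s using Finset.induction_on with
  | empty => simp
  | insert E s _ ih =>
    rw [Finset.sup_insert]
    rw [Finset.mem_insert, not_or] at hD
    refine inf_sup_eq_bot E.2.2.1 (isSubcoalg_finsetSup s) ?_ (ih hD.2)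
    have hsc := Groth.Agent.Comod.isSubcoalg_inf D.2.2.1 E.2.2.1
    rcases D.2.2.2 _ inf_le_left hsc with h0 | h0
    · exact h0
    rcases E.2.2.2 _ inf_le_right hsc with h1 | h1
    · exact h1
    exact absurd (Subtype.ext (h0.symm.trans h1)) hD.1

/-- a subcomodule of a sum of isotypic components contains the components of its vectors -/
lemma decompose (hM : (⨆ D : SimpSub k A, isoComp M D.1) = ⊤) {N : Submodule k M}
    (hN : HopfRep.IsSubcomod (k := k) (A := A) N) :
    N = ⨆ D : SimpSub k A, N ⊓ isoComp M D.1 := by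
  refine le_antisymm (fun v hv => ?_) (iSup_le fun D => inf_le_left)
  have hvtop : v ∈ ⨆ D : SimpSub k A, isoComp M D.1 := by rw [hM]; trivial
  obtain ⟨c, hc, hsum⟩ := (Submodule.mem_iSup_iff_exists_finsupp _ v).1 hvtop
  rw [← hsum]
  refine Submodule.sum_mem _ fun D hD => Submodule.mem_iSup_of_mem D ⟨?_, hc D⟩
  obtain ⟨f, hf, hf0⟩ := exists_functional (inf_finsetSup_eq_bot (c.support.erase D) (Finset.notMem_erase D _))
  suffices h : contract f v = c D from h ▸ contract_mem hN f hv
  rw [← hsum, map_finsuppSum, Finsupp.sum, Finset.sum_eq_single D]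
  · exact contract_eq_self (hc D) hf
  · intro E hE hne
    refine mem_isoComp_iff.1 (hc E) f (LinearMap.ext fun e => hf0 e ?_)
    exact Finset.le_sup (f := fun E : SimpSub k A => E.1) (Finset.mem_erase.2 ⟨hne, hE⟩) e.2
  · intro h; exact absurd hD h

lemma exists_inf_ne_bot (hM : (⨆ D : SimpSub k A, isoComp M D.1) = ⊤) {N : Submodule k M}
    (hN : HopfRep.IsSubcomod (k := k) (A := A) N) (hne : N ≠ ⊥) :
    ∃ D : SimpSub k A, N ⊓ isoComp M D.1 ≠ ⊥ := by
  by_contra h
  push Not at h
  apply hne
  rw [decompose hM hN]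
  simp [h]

variable (h : SimpSub k A → ℕ)
  (hh : ∀ D : SimpSub k A, Module.Finite k ↥(isoComp M D.1) ∧ Module.finrank k ↥(isoComp M D.1) = h D)
  (θ : SimpSub k A → ℚ)

include hh in
lemma hilbAt_mono {N N' : Submodule k M} (hle : N ≤ N') (D : SimpSub k A) :
    hilbAt M N D ≤ hilbAt M N' D := by
  have := (hh D).1
  have : FiniteDimensional k ↥(N' ⊓ isoComp M D.1) := Submodule.finiteDimensional_of_le inf_le_right
  exact Submodule.finrank_mono (inf_le_inf_right _ hle)

include hh in
lemma hilbAt_le (N : Submodule k M) (D : SimpSub k A) : hilbAt M N D ≤ h D := by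
  have := (hh D).1
  rw [← (hh D).2]
  exact Submodule.finrank_mono inf_le_right

include hh in
lemma hilbAt_top (D : SimpSub k A) : hilbAt M ⊤ D = h D := by
  unfold hilbAt
  rw [top_inf_eq]
  exact (hh D).2

include hh in
lemma hilbAt_pos {N : Submodule k M} {D : SimpSub k A} (hne : N ⊓ isoComp M D.1 ≠ ⊥) :
    0 < hilbAt M N D := by
  have := (hh D).1
  have : FiniteDimensional k ↥(N ⊓ isoComp M D.1) := Submodule.finiteDimensional_of_le inf_le_right
  refine Nat.pos_of_ne_zero fun h0 => hne ?_
  exact Submodule.finrank_eq_zero.1 h0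

include hh in
lemma le_of_hilbAt_eq {N : Submodule k M} {D : SimpSub k A} (he : hilbAt M N D = h D) :
    isoComp M D.1 ≤ N := by
  have := (hh D).1
  have := Submodule.eq_of_le_of_finrank_eq (inf_le_right (a := N) (b := isoComp M D.1))
    (he.trans (hh D).2.symm)
  rw [← this]; exact inf_le_left

omit [HopfRep.Comod k A M] in
lemma hilbAt_bot [HopfRep.Comod k A M] (D : SimpSub k A) : hilbAt M (⊥ : Submodule k M) D = 0 := by
  unfold hilbAt
  rw [bot_inf_eq, finrank_bot]

lemma theta_bot : theta M θ (⊥ : Submodule k M) = 0 := by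
  simp [theta, hilbAt_bot]

include hh in
lemma summable_theta (hsum : Summable fun D => (θ D : ℝ) * (h D : ℝ)) (N : Submodule k M) :
    Summable fun D => (θ D : ℝ) * (hilbAt M N D : ℝ) := by
  refine Summable.of_norm_bounded hsum.abs fun D => ?_
  rw [Real.norm_eq_abs, abs_mul, abs_mul, Nat.abs_cast, Nat.abs_cast]
  exact mul_le_mul_of_nonneg_left (Nat.cast_le.2 (hilbAt_le h hh N D)) (abs_nonneg _)

include hh in
lemma theta_mono (hsum : Summable fun D => (θ D : ℝ) * (h D : ℝ)) {N' N : Submodule k M}
    (hle : N' ≤ N) (heq : ∀ D, θ D < 0 → N ⊓ isoComp M D.1 ≤ N') :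
    theta M θ N' ≤ theta M θ N := by
  refine (summable_theta h hh θ hsum N').tsum_le_tsum (fun D => ?_) (summable_theta h hh θ hsum N)
  rcases lt_or_ge (θ D) 0 with hlt | hge
  · have : N' ⊓ isoComp M D.1 = N ⊓ isoComp M D.1 :=
      le_antisymm (inf_le_inf_right _ hle) (le_inf (heq D hlt) inf_le_right)
    show (θ D : ℝ) * (hilbAt M N' D : ℝ) ≤ _
    unfold hilbAt
    rw [this]
  · exact mul_le_mul_of_nonneg_left (Nat.cast_le.2 (hilbAt_mono h hh hle D)) (by exact_mod_cast hge)

include hh in
lemma theta_top (hsum : HasSum (fun D => (θ D : ℝ) * (h D : ℝ)) 0) :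
    theta M θ (⊤ : Submodule k M) = 0 := by
  unfold theta
  simp only [hilbAt_top h hh]
  exact hsum.tsum_eq

include hh in
lemma theta_le_zero (hsum : HasSum (fun D => (θ D : ℝ) * (h D : ℝ)) 0) {N : Submodule k M}
    (heq : ∀ D, θ D < 0 → isoComp M D.1 ≤ N) : theta M θ N ≤ 0 := by
  rw [← hsum.tsum_eq]
  refine (summable_theta h hh θ hsum.summable N).tsum_le_tsum (fun D => ?_) hsum.summable
  rcases lt_or_ge (θ D) 0 with hlt | hge
  · unfold hilbAt
    rw [inf_eq_right.2 (heq D hlt), (hh D).2]
  · exact mul_le_mul_of_nonneg_left (Nat.cast_le.2 (hilbAt_le h hh N D)) (by exact_mod_cast hge)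

end Coalg

section Hopf

variable (k : Type u) [Field k] (A : Type v) [CommRing A] [HopfAlgebra k A]
variable (R : Type w) [CommRing R] [Algebra k R] [HopfRep.Comod k A R]
variable (M : Type x) [AddCommGroup M] [Module k M] [Module R M] [IsScalarTower k R M]
  [HopfRep.Comod k A M] [TameAct.IsHopfMod k A R M]

lemma span_isSubcomod {s : Set M}
    (hs : HopfRep.IsSubcomod (k := k) (A := A) (Submodule.span k s)) :
    HopfRep.IsSubcomod (k := k) (A := A) ((Submodule.span R s).restrictScalars k) := by
  intro x hx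
  rw [Submodule.restrictScalars_mem] at hx
  let N := (Submodule.span R s).restrictScalars k
  change HopfRep.Comod.coact (k := k) (A := A) x ∈ LinearMap.range (N.subtype.rTensor A)
  induction hx using Submodule.span_induction with
  | mem y hy =>
    obtain ⟨z, hz⟩ := hs y (Submodule.subset_span hy)
    have hle : Submodule.span k s ≤ N := Submodule.span_le_restrictScalars k R s
    refine ⟨(Submodule.inclusion hle).rTensor A z, ?_⟩
    rw [← LinearMap.rTensor_comp_apply]
    exact hz
  | zero => simp
  | add a b _ _ ha hb => rw [map_add]; exact add_mem ha hb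
  | smul r y _ hy =>
    rw [TameAct.IsHopfMod.coact_smul]
    obtain ⟨z, hz⟩ := hy
    rw [← hz]
    clear hz
    induction HopfRep.Comod.coact (k := k) (A := A) r using TensorProduct.induction_on with
    | zero => simp
    | add p q hp hq => rw [map_add, LinearMap.add_apply]; exact add_mem hp hq
    | tmul r' a =>
      induction z using TensorProduct.induction_on with
      | zero => simp
      | add p q hp hq => rw [map_add, map_add]; exact add_mem hp hq
      | tmul n b =>
        refine ⟨(⟨r' • (n : M), Submodule.smul_mem _ r' n.2⟩ : N) ⊗ₜ[k] (a * b), ?_⟩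
        simp [TameAct.hmSMul]

lemma genIn_isSubcomod (S : Set (SimpSub k A)) {N : Submodule R M}
    (hN : HopfRep.IsSubcomod (k := k) (A := A) (N.restrictScalars k)) :
    HopfRep.IsSubcomod (k := k) (A := A) ((genIn k A R M S N).restrictScalars k) := by
  apply span_isSubcomod
  rw [Submodule.span_iUnion₂]
  simp only [Submodule.span_eq]
  exact Groth.Agent.Comod.isSubcomod_iSup fun D => Groth.Agent.Comod.isSubcomod_iSup fun _ =>
    Groth.Agent.Comod.isSubcomod_inf hN (isoComp_isSubcomod D.2.2.1)

omit [TameAct.IsHopfMod k A R M] in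
lemma inf_le_genIn (S : Set (SimpSub k A)) (N : Submodule R M) {D : SimpSub k A} (hD : D ∈ S) :
    N.restrictScalars k ⊓ isoComp M D.1 ≤ (genIn k A R M S N).restrictScalars k := fun _ hx =>
  Submodule.subset_span (Set.mem_biUnion hD hx)

omit [TameAct.IsHopfMod k A R M] in
lemma genIn_le (S : Set (SimpSub k A)) (N : Submodule R M) : genIn k A R M S N ≤ N :=
  Submodule.span_le.2 (Set.iUnion₂_subset fun _ _ _ hx => hx.1)

omit [TameAct.IsHopfMod k A R M] in
lemma genIn_idem (S : Set (SimpSub k A)) (N : Submodule R M) :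
    genIn k A R M S (genIn k A R M S N) = genIn k A R M S N :=
  le_antisymm (genIn_le k A R M S _)
    (Submodule.span_le.2 (Set.iUnion₂_subset fun _ hD _ hx =>
      Submodule.subset_span (Set.mem_biUnion hD ⟨inf_le_genIn k A R M S N hD hx, hx.2⟩)))

omit [TameAct.IsHopfMod k A R M] [IsScalarTower k R M] in
lemma eq_top_of_isoComp_le [IsScalarTower k R M] {h : SimpSub k A → ℕ}
    (hM : IsConstellation k A R M h) {N : Submodule R M}
    (hN : ∀ D : SimpSub k A, isoComp M D.1 ≤ N.restrictScalars k) : N = ⊤ := by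
  rw [← Submodule.restrictScalars_eq_top_iff k, ← top_le_iff, ← hM.2.1]
  exact iSup_le hN

end Hopf

end Groth.Agent.GHConstLib
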